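import Cfsg.Agent.H95.Szep.Engine
import Cfsg.Agent.H149.Sp.Small
import Cfsg.Agent.NotCT.Orders
import Cfsg.Agent.H408.SporEng

/-!
# Products of two centralizers in the Lyons group (helper95, S2273)
-/

set_option autoImplicit false

namespace Cfsg.Agent.H95.Szep

open Subgroup Cfsg Cfsg.Agent.H105.Sz Cfsg.Agent.H995.CopEngine Cfsg.Agent.H163.PG Cfsg.Agent.H393.Iso

def lLy : List (ℕ × ℕ) := [(2, 8), (3, 7), (5, 6), (7, 1), (11, 1), (31, 1), (37, 1), (67, 1)]

theorem lLy_valid : OrdDiv.valid lLy 51765179004000000 = true := by decide +kernel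

theorem chkLy67 : chkOne lLy 51765179004000000 67 1 = true := by decide +kernel

theorem chkLy37 : chkOne lLy 51765179004000000 37 1 = true := by decide +kernel

theorem ly_37_67 {G : Type*} [Group G] [Finite G] [IsSimpleGroup G] (h : Spor.IsoLy G) : ¬ Adj G 37 67 := by
  have hN := NotCT.Orders.ly h
  have n37 : NA 37 G := H149.Sp.na_ly_all h (by norm_num) (by norm_num) (by norm_num)
  have n67 : NA 67 G := H149.Sp.na_ly_all h (by norm_num) (by norm_num) (by norm_num)
  exact H149.Sp.Eng.not_adj (r := 37) (s := 67) (a := 8) (M := 20881476000000)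
    (L := [(3, 7), (5, 6), (7, 1), (11, 1), (31, 1)]) (ks := [2, 3, 6, 11, 22, 33, 66]) (kills := []) (by rw [hN])
    (by decide +kernel) (by norm_num) (by simp; norm_num)
    (by decide) (by decide +kernel) (by decide +kernel) (by decide +kernel) n37 n67 (by simp)

/-- the Lyons group (in universe `0`) -/
theorem szep_ly0 (hK : AllKnown.{0}) {G : Type} [Group G] [Finite G] [IsSimpleGroup G] (h : Spor.IsoLy G) : Szep G := by
  have hN := NotCT.Orders.ly h
  have n37 : NA 37 G := H149.Sp.na_ly_all h (by norm_num) (by norm_num) (by norm_num)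
  have n67 : NA 67 G := H149.Sp.na_ly_all h (by norm_num) (by norm_num) (by norm_num)
  have hna : ¬ IsMulCommutative G := H408.SporEng.not_comm (by rw [hN]; norm_num)
  have hm : ∀ r : ℕ, ∀ d, d ∣ 1 → d % r = 1 → d = 1 ∨ d = r + 1 := fun r d hd _ => Or.inl (Nat.dvd_one.1 hd)
  refine szep_of' (r := 67) (by norm_num) (by rw [hN]; norm_num) fun a b ha hb hF hd => ?_
  have ha1 := H530.Cop.cent_ne_top hna (ne_one_of_prime ha)
  have hb1 := H530.Cop.cent_ne_top hna (ne_one_of_prime hb)
  have h1 := two_part hK ha1 hN lLy_valid (r := 67) (by norm_num) hd (by norm_num) chkLy67 (hm 67) (by norm_num) n67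
    (v := 8) (by norm_num) (by decide +kernel) (j := 3) (by norm_num)
  have h37 : ¬ 37 ∣ Nat.card (centralizer ({a} : Set G)) := fun h37 =>
    ly_37_67 h (adj_of_dvd hK ha1 hN lLy_valid (r := 67) (by norm_num) hd (by norm_num) chkLy67 (hm 67)
      (s := 37) (by norm_num) (by norm_num) h37 (by norm_num) (v := 1) (by norm_num) (by decide +kernel))
  have hd' : 37 ∣ Nat.card (centralizer ({b} : Set G)) :=
    (hF.prime_dvd (by norm_num) (by rw [hN]; norm_num)).resolve_left h37
  have h2 := two_part hK hb1 hN lLy_valid (r := 37) (by norm_num) hd' (by norm_num) chkLy37 (hm 37) (by norm_num) n37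
    (v := 8) (by norm_num) (by decide +kernel) (j := 3) (by norm_num)
  refine not_pow_dvd_mul Nat.card_pos.ne' Nat.card_pos.ne' h1 h2 (Dvd.dvd.trans ?_ hF.card_dvd)
  rw [hN]
  norm_num

/-- **The Lyons group.** -/
theorem szep_ly (hK : AllKnown.{0}) {G : Type*} [Group G] (h : Spor.IsoLy G) : Szep G := by
  obtain ⟨e⟩ := h
  have hN : Nat.card Spor.Ly = 51765179004000000 := NotCT.Orders.ly ⟨MulEquiv.refl _⟩
  have hf : Finite Spor.Ly := Nat.finite_of_card_ne_zero (by rw [hN]; norm_num)
  have hs : IsSimpleGroup Spor.Ly := Cfsg.Agent.Ly.Setup.isSimple_ly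
  exact Szep.of_equiv e (szep_ly0 hK ⟨MulEquiv.refl _⟩)

end Cfsg.Agent.H95.Szep
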