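import Cfsg.Agent.H95.Szep.Basic
import Cfsg.Agent.H408.SporSelf
import Cfsg.Agent.H547.SelfCent.Conway
import Cfsg.Agent.H547.SelfCent.McLHS
import Cfsg.Agent.H547.SelfCent.Tits
import Cfsg.Agent.H547.SelfCent.Ru
import Cfsg.Agent.H393.Iso.Co1
import Cfsg.Agent.H393.Iso.Co2
import Cfsg.Agent.H393.Iso.Co3
import Cfsg.Agent.H393.Iso.HS
import Cfsg.Agent.H393.Iso.McLLy
import Cfsg.Agent.H393.Iso.Ru
import Cfsg.Agent.H393.Iso.TitsJ4
import Cfsg.Agent.H729.PairTable
import Cfsg.Agent.H153.ZerosON

/-!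
# Products of two centralizers in the sporadic groups with a self-centralizing element of prime order (helper95, S2273)

All sporadic groups except `Ly`, `HN`, `Th`, `B`, `M`; the Tits group.
-/

set_option autoImplicit false

namespace Cfsg.Agent.H95.Szep

open Subgroup Cfsg Cfsg.Agent.H105.Sz Cfsg.Agent.H408.SporEng

section

variable {G : Type*} [Group G] [Finite G] [IsSimpleGroup G]

theorem of_self {r n : ℕ} (hr : r.Prime) (hn : Nat.card G = n) (hnp : ¬ n.Prime) (h : Self r G) : Szep G := by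
  obtain ⟨x, hx, hc⟩ := h
  exact szep_of_self (H408.SporEng.not_comm (by rw [hn]; exact hnp)) (z := x) (by rw [hx]; exact hr)
    (by rw [hc, hx])

theorem szep_m11 (h : Spor.IsoM11 G) : Szep G :=
  h.elim fun e => of_self (r := 11) (by norm_num) (NotCT.Orders.m11 h) (by norm_num)
    (Self.congr e.symm H408.SporSelf.m11)

theorem szep_m12 (h : Spor.IsoM12 G) : Szep G :=
  h.elim fun e => of_self (r := 11) (by norm_num) (NotCT.Orders.m12 h) (by norm_num)
    (Self.congr e.symm H408.SporSelf.m12)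

theorem szep_m22 (h : Spor.IsoM22 G) : Szep G :=
  h.elim fun e => of_self (r := 11) (by norm_num) (NotCT.Orders.m22 h) (by norm_num)
    (Self.congr e.symm H408.SporSelf.m22)

theorem szep_m23 (h : Spor.IsoM23 G) : Szep G :=
  h.elim fun e => of_self (r := 23) (by norm_num) (NotCT.Orders.m23 h) (by norm_num)
    (Self.congr e.symm H408.SporSelf.m23)

theorem szep_m24 (h : Spor.IsoM24 G) : Szep G :=
  h.elim fun e => of_self (r := 23) (by norm_num) (NotCT.Orders.m24 h) (by norm_num)
    (Self.congr e.symm H408.SporSelf.m24)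

theorem szep_j1 (h : Spor.IsoJ1 G) : Szep G :=
  h.elim fun e => of_self (r := 19) (by norm_num) (NotCT.Orders.j1 h) (by norm_num)
    (Self.congr e.symm H408.SporSelf.j1)

theorem szep_j2 (h : Spor.IsoJ2 G) : Szep G :=
  h.elim fun e => of_self (r := 7) (by norm_num) (NotCT.Orders.j2 h) (by norm_num)
    (Self.congr e.symm H408.SporSelf.j2)

theorem szep_j3 (h : Spor.IsoJ3 G) : Szep G :=
  of_self (r := 19) (by norm_num) (NotCT.Orders.j3 h) (by norm_num) (H408.SporSelf.j3 h)

theorem szep_j4 (h : Spor.IsoJ4 G) : Szep G :=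
  h.elim fun e => of_self (r := 43) (by norm_num) (NotCT.Orders.j4 h) (by norm_num)
    (Self.congr e.symm H408.SporSelf.j4)

theorem szep_he (h : Spor.IsoHe G) : Szep G :=
  h.elim fun e => of_self (r := 17) (by norm_num) (NotCT.Orders.he h) (by norm_num)
    (Self.congr e.symm H408.SporSelf.he)

theorem szep_fi22 (h : Spor.IsoFi22 G) : Szep G :=
  h.elim fun e => of_self (r := 13) (by norm_num) (NotCT.Orders.fi22 h) (by norm_num)
    (Self.congr e.symm H408.SporSelf.fi22)

theorem szep_fi23 (h : Spor.IsoFi23 G) : Szep G :=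
  h.elim fun e => of_self (r := 23) (by norm_num) (NotCT.Orders.fi23 h) (by norm_num)
    (Self.congr e.symm H408.SporSelf.fi23)

theorem szep_fi24 (h : Spor.IsoFi24' G) : Szep G :=
  h.elim fun e => of_self (r := 29) (by norm_num) (NotCT.Orders.fi24 h) (by norm_num)
    (Self.congr e.symm H408.SporSelf.fi24)

theorem szep_co1 (h : Spor.IsoCo1 G) : Szep G :=
  of_self (r := 23) (by norm_num) (NotCT.Orders.co1 h) (by norm_num)
    (Self.of_all (by norm_num) (by rw [NotCT.Orders.co1 h]; norm_num) fun _ hx =>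
      H547.SelfCent.Conway.co1 h (H393.Iso.na_co1 h) hx)

theorem szep_co2 (h : Spor.IsoCo2 G) : Szep G :=
  of_self (r := 23) (by norm_num) (NotCT.Orders.co2 h) (by norm_num)
    (Self.of_all (by norm_num) (by rw [NotCT.Orders.co2 h]; norm_num) fun _ hx =>
      H547.SelfCent.Conway.co2 h (H393.Iso.na_co2 h) hx)

theorem szep_co3 (h : Spor.IsoCo3 G) : Szep G :=
  of_self (r := 23) (by norm_num) (NotCT.Orders.co3 h) (by norm_num)
    (Self.of_all (by norm_num) (by rw [NotCT.Orders.co3 h]; norm_num) fun _ hx =>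
      H547.SelfCent.Conway.co3 h (H393.Iso.na_co3 h) hx)

theorem szep_mcl (h : Spor.IsoMcL G) : Szep G :=
  of_self (r := 11) (by norm_num) (NotCT.Orders.mcl h) (by norm_num)
    (Self.of_all (by norm_num) (by rw [NotCT.Orders.mcl h]; norm_num) fun _ hx =>
      H547.SelfCent.McLHS.mcl h (H393.Iso.na_mcl h) (NotCT.Orders.mcl h) hx)

theorem szep_hs (h : Spor.IsoHS G) : Szep G :=
  of_self (r := 11) (by norm_num) (NotCT.Orders.hs h) (by norm_num)
    (Self.of_all (by norm_num) (by rw [NotCT.Orders.hs h]; norm_num) fun _ hx =>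
      H547.SelfCent.McLHS.hs h (H393.Iso.na_hs h) (NotCT.Orders.hs h) hx)

theorem szep_ru (h : Spor.IsoRu G) : Szep G :=
  of_self (r := 29) (by norm_num) (NotCT.Orders.ru h) (by norm_num)
    (Self.of_all (by norm_num) (by rw [NotCT.Orders.ru h]; norm_num) fun _ hx =>
      H547.SelfCent.Ru.ru h (H393.Iso.na_ru h) hx)

theorem self_suz : Self 11 Spor.Suz := by
  refine ⟨OddHalf.Table.SuzRep.x, OddHalf.Table.OutSuz.order_x, ?_⟩
  have h1 : centralizer ({OddHalf.Table.SuzRep.x} : Set Spor.Suz) = zpowers OddHalf.Table.SuzRep.x := by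
    apply le_antisymm
    · intro c hc
      obtain ⟨i, rfl⟩ := OddHalf.Table.OutSuz.cent_x c (mem_centralizer_singleton_iff.1 hc)
      exact pow_mem (mem_zpowers _) i
    · rw [zpowers_le, mem_centralizer_singleton_iff]
  rw [h1, Nat.card_zpowers, OddHalf.Table.OutSuz.order_x]

theorem szep_suz (h : Spor.IsoSuz G) : Szep G :=
  h.elim fun e => of_self (r := 11) (by norm_num) (NotCT.Orders.suz h) (by norm_num)
    (Self.congr e.symm self_suz)

theorem self_on : Self 19 Spor.ON := by
  have hc : Nat.card Spor.ON = 460815505920 := NotCT.Orders.on ⟨MulEquiv.refl _⟩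
  have : Finite Spor.ON := Nat.finite_of_card_ne_zero (by rw [hc]; norm_num)
  exact Self.of_all (by norm_num) (by rw [hc]; norm_num) fun _ hx => H153.Zeros.ON19.card_cent hx

theorem szep_on (h : Spor.IsoON G) : Szep G :=
  h.elim fun e => of_self (r := 19) (by norm_num) (NotCT.Orders.on h) (by norm_num)
    (Self.congr e.symm self_on)

theorem szep_tits (h : Lie.IsoTits G) : Szep G :=
  of_self (r := 13) (by norm_num) (NotCT.Orders.tits h) (by norm_num)
    (Self.of_all (by norm_num) (by rw [NotCT.Orders.tits h]; norm_num) fun _ hx =>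
      H547.SelfCent.tits h inferInstance (H393.Iso.na_tits h) hx)

end

end Cfsg.Agent.H95.Szep
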