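import Cfsg.Agent.H95.Szep.Basic
import Cfsg.Agent.H995.CopCoprime
import Cfsg.Agent.H149.Sp.Base
import Cfsg.Agent.H393.Iso.Base

/-!
# Proper subgroups containing an element of a large prime order: consequences (helper95, for S2273)

* `two_part` : the 2-part of `|H|`;
* `adj_of_dvd` : two primes dividing `|H|` are adjacent.
-/

set_option autoImplicit false

namespace Cfsg.Agent.H95.Szep

open Subgroup Cfsg Cfsg.Agent.H995.CopEngine Cfsg.Agent.H163.PG Cfsg.Agent.H393.Iso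

universe u

section

variable (hK : AllKnown.{u}) {G : Type u} [Group G] [Finite G] {H : Subgroup G} (hH : H ≠ ⊤) {l : List (ℕ × ℕ)} {N r m : ℕ}
  (hN : Nat.card G = N) (hv : OrdDiv.valid l N = true) (hr : r.Prime) (hd : r ∣ Nat.card H) (h2 : ¬ r ^ 2 ∣ N)
  (hc : chkOne l N r m = true) (hm : ∀ d, d ∣ m → d % r = 1 → d = 1 ∨ d = r + 1)
include hK hH hN hv hr hd h2 hc hm

/-- the 2-part of the order of a proper subgroup with an element of order `r` -/
theorem two_part (hr2 : 2 ≠ r) (hna : NA r G) {v : ℕ} (hv2 : ¬ 2 ^ (v + 1) ∣ N) (hcond : condB r 2 v = true) {j : ℕ}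
    (hj : ¬ 2 ^ (j + 1) ∣ r * (r - 1) * (r + 1)) : ¬ 2 ^ (j + 1) ∣ Nat.card H := by
  obtain ⟨K, hKn, hrK, hidx⟩ := exists_normal hK hH hN hv hr hd h2 hc hm
  intro hdv
  have hodd := odd_of_isolated hr hr2 K hrK hd (by rw [hN]; exact cond_of_chk Nat.prime_two hv2 hcond) (by
    intro t ht hdt
    have : Fact r.Prime := ⟨hr⟩
    obtain ⟨x, hx⟩ := exists_prime_orderOf_dvd_card' r hdt
    exact hna x t (by rw [orderOf_coe, hx]) ht (mem_cent.1 x.2))
  refine hodd ?_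
  have := pow_dvd_normal K (p := 2) (k := 1) (j := j) Nat.prime_two (by rwa [add_comm 1 j]) hidx hj
  rwa [pow_one] at this

/-- a second prime -/
theorem adj_of_dvd {s : ℕ} (hs : s.Prime) (hsr : s ≠ r) (hsH : s ∣ Nat.card H) (hsi : ¬ s ∣ r * (r - 1) * (r + 1))
    {v : ℕ} (hvs : ¬ s ^ (v + 1) ∣ N) (hcond : condB r s v = true) : Adj G s r := by
  obtain ⟨K, hKn, hrK, hidx⟩ := exists_normal hK hH hN hv hr hd h2 hc hm
  have h1 : s ^ 1 ∣ Nat.card K := pow_dvd_normal K (k := 1) (j := 0) hs (by rwa [add_zero, pow_one]) hidx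
    (by rwa [zero_add, pow_one])
  have : Fact r.Prime := ⟨hr⟩
  obtain ⟨w, hw⟩ := exists_prime_orderOf_dvd_card' r hd
  have h3 := pow_dvd_centralizer hr K hrK hw hs hsr h1 (by rw [hN]; exact cond_of_chk hs hvs hcond)
  rw [pow_one] at h3
  have : Fact s.Prime := ⟨hs⟩
  obtain ⟨y, hy⟩ := exists_prime_orderOf_dvd_card' s h3
  exact adj_of_commute hs hr hsr (x := (y : G)) (y := (w : G)) (by rw [orderOf_coe, hy]) (by rw [orderOf_coe, hw])
    (mem_cent.1 y.2)

end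

/-- the 2-part of a product -/
theorem not_pow_dvd_mul {a b i j : ℕ} (ha : a ≠ 0) (hb : b ≠ 0) (h1 : ¬ 2 ^ (i + 1) ∣ a) (h2 : ¬ 2 ^ (j + 1) ∣ b) :
    ¬ 2 ^ (i + j + 1) ∣ a * b := by
  rw [Nat.prime_two.pow_dvd_iff_le_factorization ha] at h1
  rw [Nat.prime_two.pow_dvd_iff_le_factorization hb] at h2
  rw [Nat.prime_two.pow_dvd_iff_le_factorization (mul_ne_zero ha hb), Nat.factorization_mul ha hb, Finsupp.add_apply]
  omega

end Cfsg.Agent.H95.Szep
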