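import Cfsg.Agent.H95.Szep.Rows
import Cfsg.Agent.H95.Szep.Ly
import Cfsg.Agent.H525.SzepTh
import Cfsg.Agent.H679.SzepHN
import Cfsg.Agent.H84.Szep.SzB
import Cfsg.Agent.H795.Szep.Monster

/-!
# Szép's theorem for the sporadic groups and the Tits group
(helpers 95, 525 (Th), 679 (HN), 84 (B), 795 (M); for S2273)
-/

set_option autoImplicit false

namespace Cfsg.Agent.H95.Szep

open Cfsg Cfsg.Agent.H105.Sz Cfsg.Agent.H995.CopEngine

/-- Szép's theorem for the 26 sporadic groups and the Tits group. -/
theorem szep_spor (hK : AllKnown.{0}) {G : Type*} [Group G] [Finite G] [IsSimpleGroup G]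
    (h : IsSporadicGroup G ∨ Lie.IsoTits G) : Szep G := by
  rcases h with h | h
  · rcases h with h | h | h | h | h | h | h | h | h | h | h | h | h | h | h | h | h | h | h | h | h | h | h | h | h | h
    · exact szep_m11 h
    · exact szep_m12 h
    · exact szep_m22 h
    · exact szep_m23 h
    · exact szep_m24 h
    · exact szep_j1 h
    · exact szep_j2 h
    · exact szep_j3 h
    · exact szep_j4 h
    · exact szep_co1 h
    · exact szep_co2 h
    · exact szep_co3 h
    · exact szep_mcl h
    · exact szep_hs h
    · exact szep_suz h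
    · exact szep_he h
    · exact szep_ru h
    · exact szep_on h
    · exact szep_ly hK h
    · exact szep_fi22 h
    · exact szep_fi23 h
    · exact szep_fi24 h
    · exact H679.SzepHN.szep_hn h
    · exact H525.SzepTh.szep_th h
    · exact H84.Szep.SzB.szep_b hK h
    · exact H795.Szep.szep_m hK h
  · exact szep_tits h

end Cfsg.Agent.H95.Szep
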